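import Mathlib
import Cfsg.Prelude.Def_LocalStructure

/-!
# Project NPC (S3875: the least order of a non-`p`-closed group): definitions
-/

set_option autoImplicit false

namespace Cfsg.Agent.Lib.helper7.NPC

/-- `H` is a minimal non-`p`-closed group: not `p`-closed, but all proper subgroups and all proper
quotients are `p`-closed. -/
structure MinNPC (p : ℕ) (H : Type*) [Group H] : Prop where
  npc : ¬ Cfsg.IsPClosed p H
  sub : ∀ K : Subgroup H, K ≠ ⊤ → Cfsg.IsPClosed p ↥K
  quot : ∀ (N : Subgroup H) [N.Normal], N ≠ ⊥ → Cfsg.IsPClosed p (H ⧸ N)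

end Cfsg.Agent.Lib.helper7.NPC
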